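/-
Over an algebraically closed field every point of a sub-Hopf-algebra extends, with no finiteness
assumption; in characteristic zero the points separate the elements.
-/
import Mathlib
import Groth.Agent.HopfFFLib.Consequences
import Groth.Agent.HopfFFLib.SubHopf
import Groth.Agent.GrpSchLib.HopfReduced

set_option autoImplicit false

universe u v

open TensorProduct
open Groth.Agent.HopfFF

namespace Groth.Agent.HopfPoints

variable {k : Type u} [Field k] {A : Type v} [CommRing A] [HopfAlgebra k A]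

/-- The image of `B ⊗ B` in `A ⊗ A`. -/
noncomputable def rng (B : Subalgebra k A) : Subalgebra k (A ⊗[k] A) :=
  (Algebra.TensorProduct.map B.val B.val).range

theorem isSubHopf_iff (B : Subalgebra k A) :
    IsSubHopf k A B ↔ B ≤ (rng B).comap (Bialgebra.comulAlgHom k A) ∧
      B ≤ B.comap (HopfAlgebra.antipodeAlgHom k A) := by
  have h : (Algebra.TensorProduct.map B.val B.val).toLinearMap =
      TensorProduct.map B.val.toLinearMap B.val.toLinearMap :=
    TensorProduct.ext' fun x y => by simp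
  unfold IsSubHopf rng
  rw [← h]
  rfl

theorem rng_mono {B C : Subalgebra k A} (h : B ≤ C) : rng B ≤ rng C := by
  rintro _ ⟨z, rfl⟩
  refine ⟨Algebra.TensorProduct.map (Subalgebra.inclusion h) (Subalgebra.inclusion h) z, ?_⟩
  show (Algebra.TensorProduct.map C.val C.val) _ = Algebra.TensorProduct.map B.val B.val z
  rw [← AlgHom.comp_apply, ← Algebra.TensorProduct.map_comp]
  rfl

theorem isSubHopf_sup {B C : Subalgebra k A} (hB : IsSubHopf k A B) (hC : IsSubHopf k A C) :
    IsSubHopf k A (B ⊔ C) := by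
  rw [isSubHopf_iff] at *
  refine ⟨sup_le (hB.1.trans ?_) (hC.1.trans ?_), sup_le (hB.2.trans ?_) (hC.2.trans ?_)⟩
  · exact fun x hx => rng_mono (B := B) (le_sup_left : B ≤ B ⊔ C) hx
  · exact fun x hx => rng_mono (B := C) (le_sup_right : C ≤ B ⊔ C) hx
  · exact fun x hx => (le_sup_left : B ≤ B ⊔ C) hx
  · exact fun x hx => (le_sup_right : C ≤ B ⊔ C) hx

theorem isSubHopf_iSup {ι : Sort*} (K : ι → Subalgebra k A) (hK : ∀ i, IsSubHopf k A (K i)) :
    IsSubHopf k A (⨆ i, K i) := by
  rw [isSubHopf_iff]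
  simp only [isSubHopf_iff] at hK
  exact ⟨iSup_le fun i x hx => rng_mono (le_iSup K i) ((hK i).1 hx),
    iSup_le fun i x hx => (le_iSup K i) ((hK i).2 hx)⟩

theorem isSubHopf_bot : IsSubHopf k A (⊥ : Subalgebra k A) := by
  rw [isSubHopf_iff]
  exact ⟨bot_le, bot_le⟩

/-- A point extends from a sub-Hopf-algebra to a bigger, relatively finitely generated algebra. -/
theorem exists_extend_step [IsAlgClosed k] {C D : Subalgebra k A} (hC : IsSubHopf k A C) (hD : D.FG)
    (g : C →ₐ[k] k) :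
    ∃ g' : ↥(C ⊔ D) →ₐ[k] k, g'.comp (Subalgebra.inclusion le_sup_left) = g := by
  classical
  obtain ⟨G, hG⟩ := hD
  have := HopfFF.faithfullyFlat hC
  let E : Subalgebra C A := Algebra.adjoin C (G : Set A)
  have : Algebra.FiniteType C E := (Subalgebra.fg_iff_finiteType _).1 (Subalgebra.fg_adjoin_finset G)
  let : Algebra C k := g.toRingHom.toAlgebra
  have : IsScalarTower k C k := IsScalarTower.of_algebraMap_eq fun c => (g.commutes c).symm
  have : Nontrivial (k ⊗[C] A) := Module.FaithfullyFlat.rTensor_nontrivial C A k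
  have : Nontrivial (k ⊗[C] E) :=
    (Algebra.TensorProduct.map (AlgHom.id C k) E.val).toRingHom.domain_nontrivial
  obtain ⟨M, hM⟩ := Ideal.exists_maximal (k ⊗[C] E)
  let : Field ((k ⊗[C] E) ⧸ M) := Ideal.Quotient.field M
  have : Module.Finite k ((k ⊗[C] E) ⧸ M) := finite_of_finite_type_of_isJacobsonRing k _
  have : Algebra.IsIntegral k ((k ⊗[C] E) ⧸ M) := Algebra.IsIntegral.of_finite k _
  let e : k ≃ₐ[k] ((k ⊗[C] E) ⧸ M) := AlgEquiv.ofBijective (Algebra.ofId k _)
    (IsAlgClosed.algebraMap_bijective_of_isIntegral)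
  let φ : E →ₐ[C] k := ((e.symm.toAlgHom.comp (Ideal.Quotient.mkₐ k M)).restrictScalars C).comp
    Algebra.TensorProduct.includeRight
  have hle : C ⊔ D ≤ E.restrictScalars k := by
    refine sup_le (fun c hc => E.algebraMap_mem ⟨c, hc⟩) ?_
    rw [← hG]
    exact Algebra.adjoin_le fun x hx => Algebra.subset_adjoin hx
  refine ⟨(φ.restrictScalars k).comp (Subalgebra.inclusion hle), AlgHom.ext fun c => ?_⟩
  exact φ.commutes c

/-- A sub-Hopf-algebra with a point of it. -/
structure Partial (k : Type u) [Field k] (A : Type v) [CommRing A] [HopfAlgebra k A] where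
  C : Subalgebra k A
  hC : IsSubHopf k A C
  g : C →ₐ[k] k

instance : Preorder (Partial k A) where
  le p q := ∃ h : p.C ≤ q.C, q.g.comp (Subalgebra.inclusion h) = p.g
  le_refl p := ⟨le_rfl, AlgHom.ext fun _ => rfl⟩
  le_trans p q r := fun ⟨h, e⟩ ⟨h', e'⟩ => ⟨h.trans h', by rw [← e, ← e']; rfl⟩

/-- Every point of a sub-Hopf-algebra extends. -/
theorem exists_extend [IsAlgClosed k] {B : Subalgebra k A} (hB : IsSubHopf k A B) (q : B →ₐ[k] k) :
    ∃ g : A →ₐ[k] k, g.comp B.val = q := by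
  obtain ⟨m, hm, hmax⟩ := zorn_le_nonempty_Ici₀ (⟨B, hB, q⟩ : Partial k A) (fun c _ hc y hy => by
    have : Nonempty c := ⟨⟨y, hy⟩⟩
    have hdir : Directed (· ≤ ·) (fun p : c => p.1.C) := fun p p' => by
      rcases hc.total p.2 p'.2 with h | h
      · exact ⟨p', h.1, le_rfl⟩
      · exact ⟨p, le_rfl, h.1⟩
    let K := fun p : c => p.1.C
    have hf : ∀ (p p' : c) (h : K p ≤ K p'),
        p.1.g = p'.1.g.comp (Subalgebra.inclusion h) := by
      intro p p' h
      rcases hc.total p.2 p'.2 with h' | h'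
      · exact h'.2.symm
      · ext x
        obtain ⟨h'', e⟩ := h'
        rw [← e]
        rfl
    refine ⟨⟨⨆ p : c, K p, isSubHopf_iSup _ fun p => p.1.hC,
      Subalgebra.iSupLift K hdir (fun p => p.1.g) hf _ le_rfl⟩, fun z hz => ?_⟩
    exact ⟨le_iSup K ⟨z, hz⟩, Subalgebra.iSupLift_comp_inclusion (K := K) (dir := hdir) (f := fun p : c => p.1.g)
      (hf := hf) (hT := le_rfl) (i := ⟨z, hz⟩) (le_iSup K ⟨z, hz⟩)⟩)
    (⟨B, hB, q⟩ : Partial k A) le_rfl
  have htop : ∀ x : A, x ∈ m.C := by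
    intro x
    obtain ⟨D, hxD, hD, hD'⟩ := exists_fg_isSubHopf (k := k) x
    obtain ⟨g', hg'⟩ := exists_extend_step m.hC hD m.g
    obtain ⟨hle, -⟩ := hmax (b := ⟨m.C ⊔ D, isSubHopf_sup m.hC hD', g'⟩) ⟨le_sup_left, hg'⟩
    exact hle ((le_sup_right : D ≤ m.C ⊔ D) hxD)
  refine ⟨m.g.comp ((AlgHom.id k A).codRestrict m.C htop), ?_⟩
  obtain ⟨h, e⟩ := hm
  refine Eq.trans ?_ e
  rfl

/-- An element which is not nilpotent is nonzero at some point. -/
theorem exists_point_ne_zero [IsAlgClosed k] (a : A) (ha : ¬IsNilpotent a) :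
    ∃ g : A →ₐ[k] k, g a ≠ 0 := by
  obtain ⟨D, haD, hD, hD'⟩ := exists_fg_isSubHopf (k := k) a
  have : Algebra.FiniteType k D := (Subalgebra.fg_iff_finiteType _).1 hD
  have : IsJacobsonRing D := isJacobsonRing_of_finiteType (A := k)
  have hn : (⟨a, haD⟩ : D) ∉ (⊥ : Ideal D).radical := fun h => ha ((mem_nilradical.1 h).map D.val)
  rw [← IsJacobsonRing.out inferInstance (Ideal.radical_isRadical ⊥), Ideal.jacobson,
    Ideal.mem_sInf] at hn
  push Not at hn
  obtain ⟨M, ⟨-, hM⟩, haM⟩ := hn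
  let : Field (D ⧸ M) := Ideal.Quotient.field M
  have : Module.Finite k (D ⧸ M) := finite_of_finite_type_of_isJacobsonRing k _
  let e : k ≃ₐ[k] (D ⧸ M) := AlgEquiv.ofBijective (Algebra.ofId k _)
    (IsAlgClosed.algebraMap_bijective_of_isIntegral)
  obtain ⟨g, hg⟩ := exists_extend hD' (e.symm.toAlgHom.comp (Ideal.Quotient.mkₐ k M))
  refine ⟨g, fun h => haM ?_⟩
  have h' := AlgHom.congr_fun hg ⟨a, haD⟩
  rw [AlgHom.comp_apply, Subalgebra.coe_val, h, AlgHom.comp_apply] at h'
  exact Ideal.Quotient.eq_zero_iff_mem.1 (e.symm.injective (by simpa using h'.symm))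

/-- In characteristic zero a commutative Hopf algebra is reduced (no finiteness assumption). -/
theorem isReduced_of_charZero [CharZero k] : IsReduced A := by
  refine ⟨fun a ha => ?_⟩
  obtain ⟨D, haD, hD, hD'⟩ := exists_fg_isSubHopf (k := k) a
  have : Algebra.FiniteType k D := (Subalgebra.fg_iff_finiteType _).1 hD
  let := hopfAlgebra hD'
  have : IsReduced D := Groth.Agent.GrpSchLib.HopfRed.isReduced_of_finiteType (k := k)
  have h0 : IsNilpotent (⟨a, haD⟩ : D) :=
    (IsNilpotent.map_iff (f := D.val) Subtype.val_injective).1 ha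
  exact congrArg Subtype.val h0.eq_zero

end Groth.Agent.HopfPoints
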