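/-
Points of affine group schemes over an algebraically closed field, no finiteness assumption.
-/
import Mathlib
import Groth.Agent.HopfPointsLib.Extend
import Groth.Agent.DiagRepLib.Scheme
import Groth.Agent.DeligneKillLib.Affine

set_option autoImplicit false
set_option backward.isDefEq.respectTransparency false

universe u

open CategoryTheory MonoidalCategory CartesianMonoidalCategory AlgebraicGeometry CoactBr WithConv
open scoped MonObj TensorProduct

namespace Groth.Agent.HopfPoints

open Groth.Agent.DiagRep (exists_pt comul_comp_of_isMonHom counit_comp_of_isMonHom)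

variable {k : Type u} [Field k] {A A' : Type u} [CommRing A] [HopfAlgebra k A] [CommRing A'] [HopfAlgebra k A']

theorem exists_bialgHom (φ : A →ₐ[k] A') [IsMonHom (pt φ)] :
    ∃ f : A →ₐc[k] A', (f : A →ₐ[k] A') = φ := by
  refine ⟨BialgHom.ofAlgHom φ (counit_comp_of_isMonHom φ) (AlgHom.ext fun x => ?_), rfl⟩
  have h := DFunLike.congr_fun (congrArg WithConv.ofConv (comul_comp_of_isMonHom φ)) x
  rw [AlgHom.convMul_apply] at h
  rw [AlgHom.comp_apply, AlgHom.comp_apply]
  refine Eq.trans ?_ h.symm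
  simp only [Bialgebra.comulAlgHom_apply]
  generalize CoalgebraStruct.comul (R := k) x = z
  induction z using TensorProduct.induction_on with
  | zero => simp
  | add a b ha hb => simp only [map_add, ha, hb]
  | tmul a b => simp

/-- A surjective homomorphism is surjective on points. -/
theorem exists_point_of_surjective [IsAlgClosed k] (φ : A →ₐ[k] A') [IsMonHom (pt φ)]
    (hs : Function.Surjective (PrimeSpectrum.comap φ.toRingHom)) (q : A →ₐ[k] k) :
    ∃ g : A' →ₐ[k] k, g.comp φ = q := by
  obtain ⟨f, hf⟩ := exists_bialgHom φ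
  have hker : ∀ a, φ a = 0 → q a = 0 := by
    intro a ha
    obtain ⟨P, hP⟩ := hs ⟨RingHom.ker q.toRingHom, RingHom.ker_isPrime _⟩
    have h2 : a ∈ (PrimeSpectrum.comap φ.toRingHom P).asIdeal := by
      show φ a ∈ P.asIdeal
      rw [ha]; exact zero_mem _
    rw [hP] at h2
    exact h2
  let e := Ideal.quotientKerEquivRange φ
  let q' : φ.range →ₐ[k] k := (Ideal.Quotient.liftₐ _ q (fun a ha => hker a ha)).comp e.symm.toAlgHom
  have hsub : Groth.Agent.HopfFF.IsSubHopf k A' φ.range := hf ▸ Groth.Agent.HopfFF.isSubHopf_range f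
  obtain ⟨g, hg⟩ := exists_extend hsub q'
  refine ⟨g, AlgHom.ext fun a => ?_⟩
  have h1 := AlgHom.congr_fun hg (φ.rangeRestrict a)
  rw [AlgHom.comp_apply] at h1
  rw [AlgHom.comp_apply]
  refine h1.trans ?_
  have h2 : e.symm (φ.rangeRestrict a) = Ideal.Quotient.mk _ a := by
    rw [AlgEquiv.symm_apply_eq]
    rfl
  show (Ideal.Quotient.liftₐ _ q (fun a ha => hker a ha)) (e.symm (φ.rangeRestrict a)) = _
  rw [h2]
  rfl

variable {G : Over (Spec (CommRingCat.of k))}

theorem exists_point_comp [IsAlgClosed k] (v : sp k A' ≅ G) (x : 𝟙_ (Over (Spec (CommRingCat.of k))) ⟶ G) :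
    ∃ (w : 𝟙_ (Over (Spec (CommRingCat.of k))) ⟶ sp k k) (q : A' →ₐ[k] k), x = w ≫ pt q ≫ v.hom := by
  have hT : Limits.IsTerminal (sp k k) := by
    haveI : IsIso (sp k k).hom := by
      change IsIso (Spec.map (CommRingCat.ofHom (algebraMap k k)))
      rw [show CommRingCat.ofHom (algebraMap k k) = 𝟙 _ from rfl]
      infer_instance
    exact Over.mkIdTerminal.ofIso (Over.isoMk (asIso (sp k k).hom)).symm
  let e := hT.uniqueUpToIso isTerminalTensorUnit
  obtain ⟨q, hq⟩ := exists_pt (R := k) (A := A') (C := k) (e.hom ≫ x ≫ v.inv)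
  exact ⟨e.inv, q, by rw [← hq]; simp⟩

theorem exists_unit_hom : Nonempty (𝟙_ (Over (Spec (CommRingCat.of k))) ⟶ sp k k) := by
  haveI : IsIso (sp k k).hom := by
    change IsIso (Spec.map (CommRingCat.ofHom (algebraMap k k)))
    rw [show CommRingCat.ofHom (algebraMap k k) = 𝟙 _ from rfl]
    infer_instance
  exact ⟨(Over.mkIdTerminal.ofIso (Over.isoMk (asIso (sp k k).hom)).symm).from _⟩

end Groth.Agent.HopfPoints
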